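import Cfsg.Agent.Recog71.O7Mult.Words
import Cfsg.Agent.CharB.PSLMult.Cover
import Cfsg.Prelude.Def_KGroupFacts

/-!
Central extensions of odd degree of `PΩ₇(3)` have degree at most three.
-/

set_option autoImplicit false
set_option maxRecDepth 100000

namespace Cfsg.Agent.Recog71.O7Mult

open Cfsg.Agent.CosetEnum
open scoped commutatorElement

variable {G : Type} [Group G]

theorem card_e6_le (val : ℕ → G) (h : ∀ W ∈ coxRels, evalWord val W = 1) :
    Nat.card (Glue.gsub val [0, 1, 2, 3, 4, 6]) ≠ 0 ∧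
      Nat.card (Glue.gsub val [0, 1, 2, 3, 4, 6]) ≤ 51840 := by
  have g := @Glue.relIndex_le G _
  have hE := g Fi22.E6.cert val h [0, 1, 2, 3, 4, 6] rfl Fi22.E6.inv_ok (by decide +kernel)
    (rels := Fi22.E6.rels) (by decide +kernel) Fi22.E6.rules_ok [0, 1, 2, 3, 6] (by decide +kernel)
  have hD := g Fi22.D5.cert val h [0, 1, 2, 3, 6] rfl Fi22.D5.inv_ok (by decide +kernel)
    (rels := Fi22.D5.rels) (by decide +kernel) Fi22.D5.rules_ok [0, 1, 2, 3] (by decide +kernel)
  have hA := g Fi22.A4.cert val h [0, 1, 2, 3] rfl Fi22.A4.inv_ok (by decide +kernel)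
    (rels := Fi22.A4.rels) (by decide +kernel) Fi22.A4.rules_ok [] (by decide +kernel)
  have h0 : Glue.gsub val [] = ⊥ := by simp [Glue.gsub]
  rw [h0] at hA
  have h1 := Glue.gsub_mono val (by decide : [0, 1, 2, 3] ⊆ [0, 1, 2, 3, 6])
  have h2 := Glue.gsub_mono val (by decide : [0, 1, 2, 3, 6] ⊆ [0, 1, 2, 3, 4, 6])
  rw [show Nat.card (Glue.gsub val [0, 1, 2, 3, 4, 6]) =
      (⊥ : Subgroup G).relIndex (Glue.gsub val [0, 1, 2, 3]) *
      (Glue.gsub val [0, 1, 2, 3]).relIndex (Glue.gsub val [0, 1, 2, 3, 6]) *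
      (Glue.gsub val [0, 1, 2, 3, 6]).relIndex (Glue.gsub val [0, 1, 2, 3, 4, 6]) by
    rw [Subgroup.relIndex_mul_relIndex _ _ _ bot_le h1,
      Subgroup.relIndex_mul_relIndex _ _ _ bot_le h2, Subgroup.relIndex_bot_left]]
  refine ⟨?_, ?_⟩
  · simp only [Nat.mul_ne_zero_iff]
    exact ⟨⟨hA.1, hD.1⟩, hE.1⟩
  · calc _ ≤ 120 * 16 * 27 := Nat.mul_le_mul (Nat.mul_le_mul hA.2 hD.2) hE.2
      _ = _ := by norm_num

theorem card_gsub_le (val : ℕ → G) (h : ∀ W ∈ Fi22.O.rels, evalWord val W = 1) :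
    Nat.card (Glue.gsub val (List.range 8)) ≠ 0 ∧ Nat.card (Glue.gsub val (List.range 8)) ≤
      Nat.card (Glue.gsub val [0, 1, 2, 3, 4, 6]) * (243 * 364) := by
  have g := @Glue.relIndex_le G _
  have hO := g Fi22.O.cert val h (List.range 8) rfl Fi22.O.inv_ok (by decide +kernel)
    (rels := Fi22.O.rels) (by decide +kernel) Fi22.O.rules_ok [0, 1, 2, 3, 4, 6, 7]
    (by decide +kernel)
  have hP := g Fi22.P.cert val h [0, 1, 2, 3, 4, 6, 7] rfl Fi22.P.inv_ok (by decide +kernel)
    (rels := Fi22.P.rels) (by decide +kernel) Fi22.P.rules_ok [0, 1, 2, 3, 4, 6] (by decide +kernel)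
  have hE := card_e6_le val fun W hW => h W (coxRels_sub hW)
  have h3 := Glue.gsub_mono val (by decide : [0, 1, 2, 3, 4, 6] ⊆ [0, 1, 2, 3, 4, 6, 7])
  have h4 := Glue.gsub_mono val (by decide : [0, 1, 2, 3, 4, 6, 7] ⊆ List.range 8)
  rw [show Nat.card (Glue.gsub val (List.range 8)) = Nat.card (Glue.gsub val [0, 1, 2, 3, 4, 6]) *
      ((Glue.gsub val [0, 1, 2, 3, 4, 6]).relIndex (Glue.gsub val [0, 1, 2, 3, 4, 6, 7]) *
      (Glue.gsub val [0, 1, 2, 3, 4, 6, 7]).relIndex (Glue.gsub val (List.range 8))) by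
    rw [Subgroup.relIndex_mul_relIndex _ _ _ h3 h4]
    simpa only [Subgroup.relIndex_bot_left] using
      (Subgroup.relIndex_mul_relIndex (⊥ : Subgroup G) _ _ bot_le (h3.trans h4)).symm]
  exact ⟨Nat.mul_ne_zero hE.1 (Nat.mul_ne_zero hP.1 hO.1),
    Nat.mul_le_mul_left _ (Nat.mul_le_mul hP.2 hO.2)⟩

theorem card_gsub_le_N (val : ℕ → G) (h : ∀ W ∈ Fi22.O.rels, evalWord val W = 1) :
    Nat.card (Glue.gsub val (List.range 8)) ≤ N :=
  (card_gsub_le val h).2.trans (le_trans (Nat.mul_le_mul_right _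
    (card_e6_le val fun W hW => h W (coxRels_sub hW)).2) (by norm_num))

theorem card_x : Nat.card (Glue.gsub x (List.range 8)) = N := by
  rw [gsub_x]; exact Fi22.index_O.2

theorem card_x_e6 : 51840 ≤ Nat.card (Glue.gsub x [0, 1, 2, 3, 4, 6]) := by
  have h := (card_gsub_le x x_rels).2
  rw [card_x] at h
  by_contra hc
  have h' := Nat.mul_le_mul_right (243 * 364) (Nat.le_of_lt_succ (Nat.not_le.mp hc))
  exact absurd (h.trans h') (by norm_num)

/-- A group generated by the letters, satisfying the relators up to a central element `c` of order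
dividing three in the spider. -/
theorem card_le_three_mul [Finite G] (val : ℕ → G) (hgen : Glue.gsub val (List.range 8) = ⊤)
    (hcox : ∀ W ∈ coxRels, evalWord val W = 1) (hr2 : evalWord val (repWord r2W 9) = 1)
    (hc : evalWord val (repWord spiderW 10) ∈ Subgroup.center G)
    (hc3 : evalWord val (repWord spiderW 10) ^ 3 = 1) : Nat.card G ≤ 3 * N := by
  set c := evalWord val (repWord spiderW 10) with hcdef
  let C := Subgroup.zpowers c
  haveI : C.Normal := ⟨fun n hn g => by
    obtain ⟨k, rfl⟩ := Subgroup.mem_zpowers_iff.mp hn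
    rw [(Subgroup.mem_center_iff.mp (Subgroup.zpow_mem _ hc k)) g, mul_inv_cancel_right]
    exact hn⟩
  let π := QuotientGroup.mk' C
  have hrels : ∀ W ∈ Fi22.O.rels, evalWord (fun l => π (val l)) W = 1 := fun W hW => by
    rw [← Glue.evalWord_hom π]
    rcases rels_split W hW with h | rfl | rfl
    · rw [hcox W h, map_one]
    · exact (QuotientGroup.eq_one_iff c).mpr (Subgroup.mem_zpowers c)
    · rw [hr2, map_one]
  have hq := card_gsub_le_N (fun l => π (val l)) hrels
  have htop : Glue.gsub (fun l => π (val l)) (List.range 8) = ⊤ := by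
    rw [← MonoidHom.range_eq_top.mpr (QuotientGroup.mk'_surjective C), MonoidHom.range_eq_map, ← hgen,
      Glue.gsub, Glue.gsub, MonoidHom.map_closure]
    congr 1
    ext g
    simp [π]
  rw [htop, Subgroup.card_top] at hq
  rw [Subgroup.card_eq_card_quotient_mul_card_subgroup C, mul_comm]
  refine Nat.mul_le_mul ?_ hq
  rw [Nat.card_zpowers]
  exact Nat.le_of_dvd (by norm_num) (orderOf_dvd_of_pow_eq_one hc3)

/-- Involutive lifts invert a word by reversing it. -/
theorem evalWord_reverse {val : ℕ → G} (hsq : ∀ l, val l * val l = 1) :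
    ∀ W : List ℕ, evalWord val W.reverse = (evalWord val W)⁻¹
  | [] => by simp [evalWord]
  | l :: W => by
    rw [List.reverse_cons, evalWord_append, evalWord_reverse hsq W]
    simp [evalWord, mul_inv_rev, inv_eq_of_mul_eq_one_right (hsq l)]

/-- An element conjugate to its inverse, central with square trivially killed, is trivial. -/
theorem eq_one_of_conj_inv {c g : G} (hc : c ∈ Subgroup.center G) (hodd : c ^ 2 = 1 → c = 1)
    (h : g * c * g⁻¹ = c⁻¹) : c = 1 := by
  rw [Subgroup.mem_center_iff.mp hc g, mul_inv_cancel_right] at h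
  apply hodd
  calc c ^ 2 = c * c := pow_two c
    _ = c * c⁻¹ := congrArg (c * ·) h
    _ = 1 := mul_inv_cancel c

theorem isConj_step {val : ℕ → G} (hsq : ∀ l, val l * val l = 1)
    (hcox : ∀ W ∈ coxRels, evalWord val W = 1) {a b : List ℕ} (h : stepOK a b = true) :
    IsConj (evalWord val a) (evalWord val b) := by
  simp only [stepOK, Bool.or_eq_true, decide_eq_true_eq, List.any_eq_true, Bool.and_eq_true] at h
  rcases h with rfl | ⟨k, -, ⟨rfl, ha⟩, hm⟩
  · rcases a with - | ⟨l, a⟩
    · exact IsConj.refl _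
    · rw [isConj_iff]
      refine ⟨(val l)⁻¹, ?_⟩
      simp [evalWord_append, evalWord]
  · generalize a.getD k 0 = p at ha hm
    generalize a.getD (k + 1) 0 = q at ha hm ⊢
    have hcm := hcox _ hm
    simp only [evalWord, mul_one] at hcm
    have e : val p * val q = val q * val p := by
      have h1 : (val p * val q) * (val p * val q) = 1 := by rw [mul_assoc]; exact hcm
      rw [← inv_eq_of_mul_eq_one_right h1, mul_inv_rev,
        inv_eq_of_mul_eq_one_right (hsq p), inv_eq_of_mul_eq_one_right (hsq q)]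
    generalize a.take k = U at ha ⊢
    generalize a.drop (k + 2) = V at ha ⊢
    subst ha
    have e' : evalWord val (U ++ [p, q] ++ V) = evalWord val (U ++ [q, p] ++ V) := by
      simp only [evalWord_append, evalWord, mul_one, e]
    rw [e']

theorem isConj_chain {val : ℕ → G} (hsq : ∀ l, val l * val l = 1)
    (hcox : ∀ W ∈ coxRels, evalWord val W = 1) : ∀ (l : List (List ℕ)) (a : List ℕ),
      chainOK (a :: l) = true → IsConj (evalWord val a) (evalWord val ((a :: l).getLastD []))
  | [], a, _ => IsConj.refl _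
  | b :: l, a, h => by
    rw [chainOK, Bool.and_eq_true] at h
    simpa using (isConj_step hsq hcox h.1).trans (isConj_chain hsq hcox l b h.2)

/-- The product lemma. -/
theorem mul_pow_three {a b : G} (ha : a ^ 3 = 1) (hb : b ^ 3 = 1)
    (hz : ⁅a, b⁆ ∈ Subgroup.center G) : (a * b) ^ 3 = 1 := by
  set z := ⁅a, b⁆ with hzdef
  have hcz : ∀ g, Commute z g := fun g => (Subgroup.mem_center_iff.mp hz g).symm
  have hconj : a * b * a⁻¹ = z * b := by rw [hzdef, commutatorElement_def, inv_mul_cancel_right]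
  have hz3 : z ^ 3 = 1 := by
    have h := congrArg (· ^ 3) hconj
    simp only [conj_pow, hb, mul_one, mul_inv_cancel, (hcz b).mul_pow] at h
    exact h.symm
  have hba : b * a = z⁻¹ * (a * b) := by rw [hzdef, commutatorElement_def]; group
  have hm : ∀ g, z⁻¹ * g = g * z⁻¹ := fun g => ((hcz g).inv_left).eq
  calc (a * b) ^ 3 = a * (b * a) * ((b * a) * b) := by simp [pow_succ, mul_assoc]
    _ = a * (z⁻¹ * (a * b)) * (z⁻¹ * (a * b) * b) := by rw [hba]
    _ = z⁻¹ * z⁻¹ * (a * a * ((b * a) * (b * b))) := by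
      rw [← mul_assoc a z⁻¹, ← hm a]
      simp only [mul_assoc]
      rw [← mul_assoc b z⁻¹, ← hm b, mul_assoc, ← mul_assoc a z⁻¹, ← hm a, mul_assoc,
        ← mul_assoc a z⁻¹, ← hm a, mul_assoc]
    _ = z⁻¹ * z⁻¹ * z⁻¹ * (a ^ 3 * b ^ 3) := by
      rw [hba]
      simp only [← mul_assoc, pow_succ, pow_zero, one_mul]
      congr 3
      rw [mul_assoc (z⁻¹ * z⁻¹) a a, mul_assoc (z⁻¹ * z⁻¹) (a * a), ← hm (a * a), ← mul_assoc]
      simp only [mul_assoc]
    _ = 1 := by rw [ha, hb, mul_one, mul_one, ← pow_two, ← pow_succ, inv_pow, hz3, inv_one]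

/-- The partial products of conjugates. -/
def pc (e m : G) : ℕ → G
  | 0 => 1
  | k + 1 => pc e m k * (m ^ k * e * (m ^ k)⁻¹)

theorem pc_spec (e m : G) : ∀ k, (e * m) ^ k = pc e m k * m ^ k
  | 0 => by simp [pc]
  | k + 1 => by
    rw [pow_succ, pc_spec e m k, pc, pow_succ]
    group

theorem pc_pow_three {H : Type} [Group H] (σ : G →* H) (hker : σ.ker ≤ Subgroup.center G) (e m : G)
    (he : e ^ 3 = 1) (n : ℕ) (hcomm : ∀ i j, i < n → j < n →
      Commute (σ (m ^ i * e * (m ^ i)⁻¹)) (σ (m ^ j * e * (m ^ j)⁻¹))) :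
    ∀ k ≤ n, pc e m k ^ 3 = 1 ∧ ∀ j < n, Commute (σ (pc e m k)) (σ (m ^ j * e * (m ^ j)⁻¹))
  | 0, _ => ⟨by simp [pc], fun j _ => by simp [pc]⟩
  | k + 1, hk => by
    obtain ⟨h3, hc⟩ := pc_pow_three σ hker e m he n hcomm k (by omega)
    refine ⟨mul_pow_three h3 (by rw [conj_pow, he, mul_one, mul_inv_cancel]) (hker ?_), fun j hj => ?_⟩
    · rw [MonoidHom.mem_ker, map_commutatorElement, commutatorElement_eq_one_iff_mul_comm]
      exact (hc k (by omega)).eq
    · rw [pc, map_mul]
      exact (hc j hj).mul_left (hcomm k j (by omega) hj)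

theorem f_eval {val : ℕ → G} (hsq : ∀ l, val l * val l = 1) (k : ℕ) :
    evalWord val (fW k) = evalWord val mW ^ k * evalWord val eW * (evalWord val mW ^ k)⁻¹ := by
  rw [fW, evalWord_append, evalWord_append, evalWord_repWord, evalWord_repWord,
    evalWord_reverse hsq, inv_pow]

theorem x_sq (l : ℕ) : x l * x l = 1 := by
  rcases Nat.lt_or_ge l 8 with h | h
  · simpa [evalWord] using x_rels _ ((by decide +kernel : ∀ k < 8, [k, k] ∈ Fi22.O.rels) l h)
  · have : x l = 1 := by
      show Fi22.pres.subVal Fi22.O.sel l = 1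
      rw [InvPres.subVal, List.getElem?_eq_none (by simpa [Fi22.O.sel] using h)]
    rw [this, one_mul]

theorem x_comm {i j : ℕ} (hi : i < 10) (hj : j < 10) :
    Commute (evalWord x (fW i)) (evalWord x (fW j)) := by
  wlog hij : i ≤ j generalizing i j
  · exact (this hj hi (by omega)).symm
  obtain ⟨d, rfl⟩ : ∃ d, j = i + d := ⟨j - i, by omega⟩
  have h := eval_eq (List.all_eq_true.mp fW_ok d (List.mem_range.mpr (by omega)))
  rw [evalWord_append, evalWord_append] at h
  have h0 : Commute (evalWord x eW) (evalWord x (fW d)) := h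
  rw [f_eval x_sq, f_eval x_sq, pow_add]
  have e : evalWord x mW ^ i * evalWord x mW ^ d * evalWord x eW *
      (evalWord x mW ^ i * evalWord x mW ^ d)⁻¹ =
      evalWord x mW ^ i * evalWord x (fW d) * (evalWord x mW ^ i)⁻¹ := by
    rw [f_eval x_sq]; group
  rw [e]
  exact h0.map (MulAut.conj (evalWord x mW ^ i)).toMonoidHom

theorem odd_bound {Γ : Type} [Group Γ] [Finite Γ] (σ : Γ →* Fi22.pres.Gp)
    (hrange : σ.range = Fi22.pres.sub Fi22.O.sel) (hker : σ.ker ≤ Subgroup.center Γ)
    (hperf : commutator Γ = ⊤) (hodd : Odd (Nat.card σ.ker)) : Nat.card σ.ker ≤ 3 := by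
  have hx : ∀ l, ∃ g, σ g = x l := fun l => by
    rcases Nat.lt_or_ge l 8 with h | h
    · have hm : x l ∈ σ.range := by
        rw [hrange, ← gsub_x]
        exact Subgroup.subset_closure (List.mem_map_of_mem (List.mem_range.mpr h))
      exact hm
    · refine ⟨1, ?_⟩
      rw [map_one]
      show 1 = Fi22.pres.subVal Fi22.O.sel l
      rw [InvPres.subVal, List.getElem?_eq_none (by simpa [Fi22.O.sel] using h)]
  choose g hg using hx
  let v : ℕ → Γ := fun l => g l ^ Nat.card σ.ker
  have hv : ∀ l, σ (v l) = x l := fun l => by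
    obtain ⟨k, hk⟩ := hodd
    show σ (g l ^ Nat.card σ.ker) = x l
    rw [map_pow, hg, hk, pow_succ, pow_mul, pow_two, x_sq, one_pow, one_mul]
  have hsq : ∀ l, v l * v l = 1 := fun l => by
    have hmem : g l * g l ∈ σ.ker := by rw [MonoidHom.mem_ker, map_mul, hg, x_sq]
    have h := congrArg Subtype.val (pow_card_eq_one' (x := (⟨_, hmem⟩ : σ.ker)))
    simpa [v, ← (Commute.refl (g l)).mul_pow] using h
  have h2 : ∀ c ∈ σ.ker, c ^ 2 = 1 → c = 1 := fun c hc h => by
    have hn : c ^ Nat.card σ.ker = 1 := by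
      simpa using congrArg Subtype.val (pow_card_eq_one' (x := (⟨c, hc⟩ : σ.ker)))
    have h' : c ^ Nat.gcd 2 (Nat.card σ.ker) = 1 := pow_gcd_eq_one.mpr ⟨h, hn⟩
    rwa [Nat.coprime_two_left.mpr hodd, pow_one] at h'
  have hev : ∀ W, σ (evalWord v W) = evalWord x W := fun W => by
    rw [Glue.evalWord_hom σ]; exact congrArg (evalWord · W) (funext hv)
  have hmem : ∀ W ∈ Fi22.O.rels, evalWord v W ∈ σ.ker := fun W hW => by
    rw [MonoidHom.mem_ker, hev, x_rels W hW]
  have hcox : ∀ W ∈ coxRels, evalWord v W = 1 := fun W hW => by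
    have hk := hmem W (coxRels_sub hW)
    rcases (by decide +kernel : ∀ W ∈ coxRels,
      W.reverse = W.drop 1 ++ W.take 1 ∨ W.reverse = W) W hW with h | h
    · rcases W with - | ⟨l, W⟩
      · rfl
      · refine eq_one_of_conj_inv (g := (v l)⁻¹) (hker hk) (h2 _ hk) ?_
        rw [← evalWord_reverse hsq, h]
        simp [evalWord_append, evalWord]
    · refine eq_one_of_conj_inv (g := 1) (hker hk) (h2 _ hk) ?_
      rw [one_mul, inv_one, mul_one, ← evalWord_reverse hsq, h]
  have hr2 : evalWord v (repWord r2W 9) = 1 := by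
    have hk := hmem _ r2_mem
    have hconj : IsConj (evalWord v r2W) (evalWord v r2W.reverse) :=
      isConj_chain hsq hcox chain.tail r2W chain_ok
    rw [evalWord_reverse hsq] at hconj
    obtain ⟨t, ht⟩ := isConj_iff.mp hconj
    refine eq_one_of_conj_inv (g := t) (hker hk) (h2 _ hk) ?_
    rw [evalWord_repWord, ← conj_pow, ht, inv_pow]
  -- the spider
  have hthe : evalWord v thetaW * evalWord v thetaW = 1 := by
    nth_rewrite 1 [show thetaW = thetaW.reverse from rfl]
    rw [evalWord_reverse hsq, inv_mul_cancel]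
  have hthei : (evalWord v thetaW)⁻¹ = evalWord v thetaW := inv_eq_of_mul_eq_one_right hthe
  have htau : evalWord v tauW ^ 3 = 1 := by
    have hk : evalWord v tauW ^ 3 ∈ σ.ker := by
      rw [MonoidHom.mem_ker, map_pow, hev, ← evalWord_repWord, eval_eq tauW_ok]; rfl
    refine eq_one_of_conj_inv (g := v 7) (hker hk) (h2 _ hk) ?_
    rw [← conj_pow, ← inv_pow (evalWord v tauW)]
    congr 1
    show v 7 * (v 7 * evalWord v thetaW) * (v 7)⁻¹ = (v 7 * evalWord v thetaW)⁻¹
    rw [← mul_assoc, hsq, one_mul, mul_inv_rev, hthei]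
  have he : evalWord v eW ^ 3 = 1 := by
    rw [eW, evalWord_append, evalWord_append, evalWord_reverse hsq, conj_pow, htau, mul_one,
      mul_inv_cancel]
  have hsp : evalWord v spiderW = evalWord v eW * evalWord v mW := by
    rw [show spiderW = pW ++ [7] from rfl, eW, mW, evalWord_append, evalWord_append,
      evalWord_append, evalWord_append, evalWord_reverse hsq,
      show evalWord v tauW = v 7 * evalWord v thetaW from rfl]
    simp [mul_assoc, hthe, evalWord]
  have hm10 : evalWord v mW ^ 10 = 1 := by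
    let E := Glue.gsub v [0, 1, 2, 3, 4, 6]
    have hmemE : evalWord v mW ^ 10 ∈ E :=
      pow_mem (Glue.evalWord_mem_gsub _ _ _ (by decide +kernel)) _
    let f : E →* Fi22.pres.Gp := σ.comp E.subtype
    have hrg : f.range = Glue.gsub x [0, 1, 2, 3, 4, 6] := by
      rw [MonoidHom.range_comp, Subgroup.range_subtype]
      show (Glue.gsub v [0, 1, 2, 3, 4, 6]).map σ = _
      rw [Glue.gsub, MonoidHom.map_closure, Glue.gsub]
      congr 1
      ext y
      simp [hv, eq_comm]
    have hinj : Function.Bijective f.rangeRestrict :=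
      f.rangeRestrict_surjective.bijective_of_nat_card_le
        (by rw [hrg]; exact (card_e6_le v hcox).2.trans card_x_e6)
    have h1 : f.rangeRestrict ⟨_, hmemE⟩ = f.rangeRestrict 1 := Subtype.ext (by
      show σ (evalWord v mW ^ 10) = σ 1
      rw [map_pow, map_one, hev, ← evalWord_repWord, eval_eq mW_ok]
      rfl)
    exact congrArg Subtype.val (hinj.1 h1)
  have hc3 : evalWord v (repWord spiderW 10) ^ 3 = 1 := by
    rw [evalWord_repWord, hsp, pc_spec, hm10, mul_one]
    refine (pc_pow_three σ hker _ _ he 10 (fun i j hi hj => ?_) 10 le_rfl).1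
    rw [← f_eval hsq, ← f_eval hsq, hev, hev]
    exact x_comm hi hj
  have hgen : Glue.gsub v (List.range 8) = ⊤ := by
    refine CharB.PSLMult.eq_top_of_sup_center hperf (eq_top_iff.mpr fun y _ => ?_)
    have himg : (Glue.gsub v (List.range 8)).map σ = σ.range := by
      rw [hrange, ← gsub_x, Glue.gsub, Glue.gsub, MonoidHom.map_closure]
      congr 1
      ext z
      simp [hv, eq_comm]
    obtain ⟨a, ha, e⟩ : σ y ∈ (Glue.gsub v (List.range 8)).map σ := himg ▸ ⟨y, rfl⟩
    rw [show y = a * (a⁻¹ * y) by group]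
    exact Subgroup.mul_mem_sup ha (hker (by simp [MonoidHom.mem_ker, e]))
  have hcard := card_le_three_mul v hgen hcox hr2 (hker (hmem _ spider_mem)) hc3
  rw [← σ.ker.card_mul_index, Subgroup.index_ker, hrange, Fi22.index_O.2] at hcard
  exact Nat.le_of_mul_le_mul_right hcard (by norm_num)

end Cfsg.Agent.Recog71.O7Mult
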