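import Cfsg.Agent.Recog71.O7Mult.Perm

set_option autoImplicit false
set_option maxRecDepth 100000

namespace Cfsg.Agent.Recog71.O7Mult

open Cfsg.Agent.CosetEnum

theorem gen_ok_0 : allRange genOK 0 1024 = true := by decide +kernel

theorem gen_ok_1 : allRange genOK 1024 1024 = true := by decide +kernel

theorem gen_ok_2 : allRange genOK 2048 1024 = true := by decide +kernel

theorem gen_ok_3 : allRange genOK 3072 1024 = true := by decide +kernel

theorem gen_ok_4 : allRange genOK 4096 1024 = true := by decide +kernel

theorem gen_ok_5 : allRange genOK 5120 1024 = true := by decide +kernel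

theorem gen_ok_6 : allRange genOK 6144 1024 = true := by decide +kernel

theorem gen_ok_7 : allRange genOK 7168 1024 = true := by decide +kernel

theorem gen_ok_8 : allRange genOK 8192 1024 = true := by decide +kernel

theorem gen_ok_9 : allRange genOK 9216 261 = true := by decide +kernel

end Cfsg.Agent.Recog71.O7Mult
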