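import Cfsg.Agent.Recog71.O7Mult.Perm

set_option autoImplicit false
set_option maxRecDepth 100000

namespace Cfsg.Agent.Recog71.O7Mult

open Cfsg.Agent.CosetEnum

theorem rel_ok_0 : allRange relOK 0 1024 = true := by decide +kernel

theorem rel_ok_1 : allRange relOK 1024 1024 = true := by decide +kernel

theorem rel_ok_2 : allRange relOK 2048 1024 = true := by decide +kernel

theorem rel_ok_3 : allRange relOK 3072 1024 = true := by decide +kernel

end Cfsg.Agent.Recog71.O7Mult
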