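import Cfsg.Agent.Recog71.O7Mult.Perm

set_option autoImplicit false
set_option maxRecDepth 100000

namespace Cfsg.Agent.Recog71.O7Mult

open Cfsg.Agent.CosetEnum

theorem rel_ok_4 : allRange relOK 4096 1024 = true := by decide +kernel

theorem rel_ok_5 : allRange relOK 5120 1024 = true := by decide +kernel

theorem rel_ok_6 : allRange relOK 6144 1024 = true := by decide +kernel

theorem rel_ok_7 : allRange relOK 7168 1024 = true := by decide +kernel

end Cfsg.Agent.Recog71.O7Mult
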