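import Cfsg.Agent.Recog71.O7Mult.Bound
import Cfsg.Agent.Recog71.O7Mult.CheckGen
import Cfsg.Agent.Recog71.O7Mult.CheckRel0
import Cfsg.Agent.Recog71.O7Mult.CheckRel1
import Cfsg.Agent.Recog71.O7Mult.CheckRel2
import Cfsg.Agent.Recog71.O7Mult.CheckLong0
import Cfsg.Agent.Recog71.O7Mult.CheckLong1
import Cfsg.Agent.Recog71.O7Mult.CheckLong2

/-!
The threefold cover of `PΩ₇(3)`.
-/

set_option autoImplicit false
set_option maxRecDepth 100000

namespace Cfsg.Agent.Recog71.O7Mult

open Cfsg.Agent.CosetEnum

theorem chunks {f : ℕ → Bool} (h0 : allRange f 0 1024 = true) (h1 : allRange f 1024 1024 = true)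
    (h2 : allRange f 2048 1024 = true) (h3 : allRange f 3072 1024 = true)
    (h4 : allRange f 4096 1024 = true) (h5 : allRange f 5120 1024 = true)
    (h6 : allRange f 6144 1024 = true) (h7 : allRange f 7168 1024 = true)
    (h8 : allRange f 8192 1024 = true) (h9 : allRange f 9216 261 = true) (q : Fin 9477) :
    f q = true := by
  have hq := q.2
  obtain ⟨k, hk, h⟩ : ∃ k, k < 10 ∧ 1024 * k ≤ q.1 ∧ q.1 < 1024 * k + 1024 :=
    ⟨q.1 / 1024, by omega, by omega, by omega⟩
  interval_cases k
  exacts [allRange_spec h0 q (by omega) (by omega), allRange_spec h1 q (by omega) (by omega),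
    allRange_spec h2 q (by omega) (by omega), allRange_spec h3 q (by omega) (by omega),
    allRange_spec h4 q (by omega) (by omega), allRange_spec h5 q (by omega) (by omega),
    allRange_spec h6 q (by omega) (by omega), allRange_spec h7 q (by omega) (by omega),
    allRange_spec h8 q (by omega) (by omega), allRange_spec h9 q (by omega) (by omega)]

theorem gen_ok (q : Fin 9477) : genOK q = true :=
  chunks gen_ok_0 gen_ok_1 gen_ok_2 gen_ok_3 gen_ok_4 gen_ok_5 gen_ok_6 gen_ok_7 gen_ok_8 gen_ok_9 q

theorem rel_ok (q : Fin 9477) : relOK q = true :=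
  chunks rel_ok_0 rel_ok_1 rel_ok_2 rel_ok_3 rel_ok_4 rel_ok_5 rel_ok_6 rel_ok_7 rel_ok_8 rel_ok_9 q

theorem long_ok (q : Fin 9477) : longOK q = true :=
  chunks long_ok_0 long_ok_1 long_ok_2 long_ok_3 long_ok_4 long_ok_5 long_ok_6 long_ok_7 long_ok_8
    long_ok_9 q

theorem ef_spec {l : ℕ} (hl : l < 8) (q : Fin 9477) :
    ef l q < 9477 ∧ ef l (ef l q) = q ∧ ef l (sh q) = sh (ef l q) := by
  have h := gen_ok q
  simp only [genOK, List.all_eq_true, List.mem_range, forceNat_eq, Bool.and_eq_true,
    Nat.beq_eq] at h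
  exact ⟨Nat.le_of_ble_eq_true (h l hl).1.1, (h l hl).1.2, (h l hl).2⟩

/-- A generator as a permutation of the points. -/
noncomputable def permE (l : ℕ) : Equiv.Perm (Fin 9477) :=
  if h : l < 8 then Function.Involutive.toPerm (fun q => ⟨ef l q, (ef_spec h q).1⟩)
    (fun q => Fin.ext (ef_spec h q).2.1) else 1

theorem permE_apply {l : ℕ} (h : l < 8) (q : Fin 9477) : (permE l q : ℕ) = ef l q := by
  rw [permE, dif_pos h]; rfl

theorem evalWord_apply : ∀ {W : List ℕ}, (∀ l ∈ W, l < 8) → ∀ q : Fin 9477,
    (evalWord permE W q : ℕ) = runE W q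
  | [], _, _ => rfl
  | l :: W, h, q => by
    rw [runE, forceNat_eq, ← evalWord_apply (fun k hk => h k (List.mem_cons_of_mem _ hk)) q,
      ← permE_apply (h l List.mem_cons_self)]
    rfl

theorem permE_sq (l : ℕ) : permE l * permE l = 1 := by
  by_cases h : l < 8
  · ext q
    rw [Equiv.Perm.mul_apply, permE_apply h, permE_apply h]
    exact (ef_spec h q).2.1
  · rw [permE, dif_neg h, one_mul]

/-- The shift of the weights, a product of generators. -/
noncomputable def shP : Equiv.Perm (Fin 9477) := evalWord permE (repWord spiderW 10)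

theorem shP_apply (q : Fin 9477) : (shP q : ℕ) = sh q := by
  have h := long_ok q
  simp only [longOK, Bool.and_eq_true, Nat.beq_eq] at h
  rw [shP, evalWord_apply (by decide +kernel)]
  exact h.2

theorem shP_comm (l : ℕ) : permE l * shP = shP * permE l := by
  by_cases h : l < 8
  · ext q
    rw [Equiv.Perm.mul_apply, Equiv.Perm.mul_apply, permE_apply h, shP_apply, shP_apply,
      permE_apply h]
    exact (ef_spec h q).2.2
  · rw [permE, dif_neg h, one_mul, mul_one]

theorem shP_pow_three : shP ^ 3 = 1 := by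
  ext q
  rw [pow_succ, pow_succ, pow_one, Equiv.Perm.mul_apply, Equiv.Perm.mul_apply, shP_apply,
    shP_apply, shP_apply, Equiv.Perm.one_apply]
  unfold sh
  omega

theorem shP_ne_one : shP ≠ 1 := by
  intro h
  have h0 := shP_apply ⟨0, by norm_num⟩
  rw [h, Equiv.Perm.one_apply] at h0
  exact absurd h0 (by decide)

theorem cox_perm : ∀ W ∈ coxRels, evalWord permE W = 1 := by
  have half : ∀ W ∈ halfRels, evalWord permE W = 1 := fun W hW => by
    ext q
    rw [evalWord_apply ((by decide +kernel : ∀ W ∈ halfRels, ∀ l ∈ W, l < 8) W hW),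
      Equiv.Perm.one_apply]
    have h := rel_ok q
    simp only [relOK, List.all_eq_true, Nat.beq_eq] at h
    exact h W hW
  intro W hW
  rcases (by decide +kernel : ∀ W ∈ coxRels, W ∈ halfRels ∨ W.reverse ∈ halfRels) W hW with h | h
  · exact half W h
  · rw [← inv_eq_one, ← evalWord_reverse permE_sq]
    exact half _ h

theorem r2_perm : evalWord permE (repWord r2W 9) = 1 := by
  ext q
  have h := long_ok q
  simp only [longOK, Bool.and_eq_true, Nat.beq_eq] at h
  rw [evalWord_apply (by decide +kernel), Equiv.Perm.one_apply]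
  exact h.1

theorem gsub_le_commutator {G : Type} [Group G] (val : ℕ → G)
    (hcox : ∀ W ∈ coxRels, evalWord val W = 1) (hr2 : evalWord val (repWord r2W 9) = 1) :
    Glue.gsub val (List.range 8) ≤ commutator G := by
  rw [Glue.gsub, Subgroup.closure_le]
  intro g hg
  obtain ⟨l, hl, rfl⟩ := List.mem_map.mp hg
  rw [List.mem_range] at hl
  rw [SetLike.mem_coe, ← Abelianization.ker_of, MonoidHom.mem_ker]
  let f : G →* Abelianization G := Abelianization.of
  show f (val l) = 1
  have hr : ∀ W ∈ coxRels, evalWord (fun k => f (val k)) W = 1 := fun W hW => by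
    rw [← Glue.evalWord_hom f, hcox W hW, map_one]
  have sq : ∀ k < 8, f (val k) * f (val k) = 1 := fun k hk => by
    simpa [evalWord] using hr [k, k] ((by decide +kernel : ∀ j < 8, [j, j] ∈ coxRels) k hk)
  have adj : ∀ a b, a < 8 → b < 8 → [a, b, a, b, a, b] ∈ coxRels → f (val a) = f (val b) := by
    intro a b ha hb hm
    have h := hr _ hm
    simp only [evalWord, mul_one] at h
    have h' : f (val a) * f (val b) = 1 := by
      have e : f (val a) * (f (val b) * (f (val a) * (f (val b) * (f (val a) * f (val b))))) =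
          (f (val a) * f (val a)) * (f (val b) * f (val b)) * (f (val a) * f (val b)) := by ac_rfl
      rw [e, sq a ha, sq b hb, one_mul, one_mul] at h
      exact h
    calc f (val a) = f (val a) * (f (val b) * f (val b)) := by rw [sq b hb, mul_one]
      _ = f (val b) := by rw [← mul_assoc, h', one_mul]
  have e01 := adj 0 1 (by omega) (by omega) (by decide +kernel)
  have e12 := adj 1 2 (by omega) (by omega) (by decide +kernel)
  have e23 := adj 2 3 (by omega) (by omega) (by decide +kernel)
  have e26 := adj 2 6 (by omega) (by omega) (by decide +kernel)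
  have e34 := adj 3 4 (by omega) (by omega) (by decide +kernel)
  have e45 := adj 4 5 (by omega) (by omega) (by decide +kernel)
  have e67 := adj 6 7 (by omega) (by omega) (by decide +kernel)
  have h0 : f (val 0) = 1 := by
    have h := congrArg f hr2
    rw [map_one, evalWord_repWord, map_pow, Glue.evalWord_hom f] at h
    simp only [r2W, evalWord, mul_one, ← e45, ← e34, ← e26, ← e23, ← e12, ← e01] at h
    have e : f (val 0) * (f (val 0) * (f (val 0) * (f (val 0) * (f (val 0) * (f (val 0) * f (val 0)))))) =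
        f (val 0) := by
      simp only [sq 0 (by omega), mul_one]
    rw [e, pow_succ, show 8 = 2 * 4 from rfl, pow_mul, pow_two, sq 0 (by omega), one_pow, one_mul] at h
    exact h
  interval_cases l <;> simp only [← e67, ← e45, ← e34, ← e26, ← e23, ← e12, ← e01, h0]

/-- The generators of the cover. -/
noncomputable def pv (l : ℕ) : Equiv.Perm (Fin 9477) × Fi22.pres.Gp := (permE l, x l)

theorem pv_eval (W : List ℕ) : evalWord pv W = (evalWord permE W, evalWord x W) :=
  Prod.ext (Glue.evalWord_hom (MonoidHom.fst _ _) pv W) (Glue.evalWord_hom (MonoidHom.snd _ _) pv W)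

/-- The cover. -/
noncomputable def cov : Subgroup (Equiv.Perm (Fin 9477) × Fi22.pres.Gp) :=
  Glue.gsub pv (List.range 8)

/-- The generators inside the cover. -/
noncomputable def cv (l : ℕ) : cov :=
  if h : l < 8 then ⟨pv l, Subgroup.subset_closure (List.mem_map_of_mem (List.mem_range.mpr h))⟩
  else 1

theorem cv_eval : ∀ {W : List ℕ}, (∀ l ∈ W, l < 8) → ((evalWord cv W : cov) : Equiv.Perm (Fin 9477) ×
    Fi22.pres.Gp) = evalWord pv W
  | [], _ => rfl
  | l :: W, h => by
    show ((cv l : cov) : Equiv.Perm (Fin 9477) × Fi22.pres.Gp) * _ = _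
    rw [cv_eval (fun k hk => h k (List.mem_cons_of_mem _ hk)), cv,
      dif_pos (h l List.mem_cons_self)]
    rfl

theorem cv_gen : Glue.gsub cv (List.range 8) = ⊤ := by
  apply Subgroup.map_injective (Subgroup.subtype_injective cov)
  rw [← MonoidHom.range_eq_map, Subgroup.range_subtype]
  conv_rhs => rw [cov]
  rw [Glue.gsub, Glue.gsub, MonoidHom.map_closure]
  congr 1
  ext g
  simp only [Set.mem_image, List.mem_map, List.mem_range, Set.mem_ofPred_eq]
  constructor
  · rintro ⟨_, ⟨l, hl, rfl⟩, rfl⟩
    exact ⟨l, hl, by rw [cv, dif_pos hl]; rfl⟩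
  · rintro ⟨l, hl, rfl⟩
    exact ⟨cv l, ⟨l, hl, rfl⟩, by rw [cv, dif_pos hl]; rfl⟩

/-- The projection of the cover. -/
noncomputable def proj : cov →* Fi22.pres.sub Fi22.O.sel :=
  ((MonoidHom.snd _ _).comp cov.subtype).codRestrict _ fun g => by
    have h : cov.map (MonoidHom.snd _ _) = Fi22.pres.sub Fi22.O.sel := by
      rw [← gsub_x, cov, Glue.gsub, Glue.gsub, MonoidHom.map_closure]
      congr 1
      ext y
      simp [pv, eq_comm]
    exact h ▸ ⟨g.1, g.2, rfl⟩

theorem exists_triple_cover : ∃ (Γ : Type) (_ : Group Γ) (σ : Γ →* Fi22.pres.sub Fi22.O.sel),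
    Cfsg.IsStemExtension σ ∧ Nat.card σ.ker = 3 ∧
      commutator (Fi22.pres.sub Fi22.O.sel) = ⊤ := by
  haveI := Fi22.finite
  haveI : Finite cov := Subtype.finite
  refine ⟨cov, inferInstance, proj, ?_⟩
  have hcox : ∀ W ∈ coxRels, evalWord cv W = 1 := fun W hW => Subtype.ext (by
    rw [cv_eval ((by decide +kernel : ∀ W ∈ coxRels, ∀ l ∈ W, l < 8) W hW), pv_eval, cox_perm W hW,
      x_rels W (coxRels_sub hW)]
    rfl)
  have hr2 : evalWord cv (repWord r2W 9) = 1 := Subtype.ext (by
    rw [cv_eval (W := repWord r2W 9) (by decide +kernel), pv_eval, r2_perm, x_rels _ r2_mem]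
    rfl)
  set a := evalWord cv (repWord spiderW 10) with hadef
  have ha : (a : Equiv.Perm (Fin 9477) × Fi22.pres.Gp) = (shP, 1) := by
    rw [hadef, cv_eval (W := repWord spiderW 10) (by decide +kernel), pv_eval, x_rels _ spider_mem]
    rfl
  have hac : a ∈ Subgroup.center cov := by
    rw [Subgroup.mem_center_iff]
    intro g
    have hle : (⊤ : Subgroup cov) ≤ Subgroup.centralizer {a} := by
      rw [← cv_gen, Glue.gsub, Subgroup.closure_le]
      intro y hy
      obtain ⟨l, hl, rfl⟩ := List.mem_map.mp hy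
      rw [SetLike.mem_coe, Subgroup.mem_centralizer_singleton_iff]
      apply Subtype.ext
      rw [Subgroup.coe_mul, Subgroup.coe_mul, ha, cv, dif_pos (List.mem_range.mp hl)]
      exact Prod.ext (shP_comm l) (by simp)
    exact Subgroup.mem_centralizer_singleton_iff.mp (hle (Subgroup.mem_top g))
  have ha3 : a ^ 3 = 1 := Subtype.ext (by
    rw [Subgroup.coe_pow, ha, Prod.pow_mk, shP_pow_three, one_pow]
    rfl)
  have ha1 : a ≠ 1 := fun h => shP_ne_one (by
    have := congrArg Prod.fst ha.symm
    rw [h] at this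
    exact this)
  have hcard := card_le_three_mul cv cv_gen hcox hr2 hac ha3
  have hsurj : Function.Surjective proj := by
    rw [← MonoidHom.range_eq_top, eq_top_iff]
    rintro ⟨y, hy⟩ -
    rw [← gsub_x] at hy
    have h : cov.map (MonoidHom.snd _ _) = Glue.gsub x (List.range 8) := by
      rw [cov, Glue.gsub, Glue.gsub, MonoidHom.map_closure]
      congr 1
      ext z
      simp [pv, eq_comm]
    obtain ⟨g, hg, e⟩ := (h ▸ hy : y ∈ cov.map (MonoidHom.snd _ _))
    exact ⟨⟨g, hg⟩, Subtype.ext e⟩
  have hak : a ∈ proj.ker := Subtype.ext (congrArg Prod.snd ha)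
  have ho : Nat.card (Subgroup.zpowers a) = 3 := by
    rw [Nat.card_zpowers]
    exact orderOf_eq_prime ha3 ha1
  have hk3 : Nat.card proj.ker ≤ 3 := by
    rw [← proj.ker.card_mul_index, Subgroup.index_ker, MonoidHom.range_eq_top.mpr hsurj,
      Subgroup.card_top, Fi22.index_O.2] at hcard
    exact Nat.le_of_mul_le_mul_right hcard (by norm_num)
  have hker : Subgroup.zpowers a = proj.ker :=
    Subgroup.eq_of_le_of_card_ge (Subgroup.zpowers_le.mpr hak) (hk3.trans ho.ge)
  have hperf : commutator cov = ⊤ := top_le_iff.mp (cv_gen.ge.trans (gsub_le_commutator cv hcox hr2))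
  refine ⟨⟨hsurj, ?_, ?_⟩, ?_, ?_⟩
  · rw [← hker]
    exact Subgroup.zpowers_le.mpr hac
  · exact le_top.trans hperf.ge
  · rw [← hker, ho]
  · have h := congrArg (Subgroup.map proj) hperf
    rwa [_root_.commutator_def, Subgroup.map_commutator, Subgroup.map_top_of_surjective proj hsurj,
      ← _root_.commutator_def] at h

end Cfsg.Agent.Recog71.O7Mult
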