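import Cfsg.Prelude.Def_Classical
import Mathlib

/-!
Isomorphic fields give isomorphic groups `PΩ`.
-/

set_option autoImplicit false

namespace Cfsg.Agent.Recog71.O7Mult

open Matrix

universe u v

theorem pomega_field {ι : Type} [Fintype ι] [DecidableEq ι] {F : Type u} {K : Type v} [Field F]
    [Field K] (e : F ≃+* K) (Q : (ι → F) → F) (Q' : (ι → K) → K)
    (hQ : ∀ w, Q' (e ∘ w) = e (Q w)) : Nonempty (Cfsg.POmega F Q ≃* Cfsg.POmega K Q') := by
  let φ : GL ι F ≃* GL ι K := Units.mapEquiv e.mapMatrix.toMulEquiv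
  have hφ : ∀ (g : GL ι F) (w : ι → F),
      (φ g : Matrix ι ι K) *ᵥ (e ∘ w) = e ∘ ((g : Matrix ι ι F) *ᵥ w) := fun g w => by
    funext i
    exact (RingHom.map_mulVec e.toRingHom (g : Matrix ι ι F) w i).symm
  have hmem : ∀ g : GL ι F, φ g ∈ Cfsg.isometryGroup K Q' ↔ g ∈ Cfsg.isometryGroup F Q := by
    intro g
    constructor
    · intro h w _
      show Q ((g : Matrix ι ι F) *ᵥ w) = Q w
      apply e.injective
      rw [← hQ, ← hQ, ← hφ]
      exact h (e ∘ w) 0
    · intro h w _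
      show Q' ((φ g : Matrix ι ι K) *ᵥ w) = Q' w
      obtain ⟨w, rfl⟩ : ∃ w', e ∘ w' = w := ⟨e.symm ∘ w, by funext i; simp⟩
      rw [hφ, hQ, hQ]
      exact congrArg e (h w 0)
  let E : ↥(Cfsg.isometryGroup F Q) ≃* ↥(Cfsg.isometryGroup K Q') :=
    { toFun := fun x => ⟨φ (x : GL ι F), (hmem _).2 x.2⟩
      invFun := fun y => ⟨φ.symm (y : GL ι K), (hmem _).1 (by rw [MulEquiv.apply_symm_apply]; exact y.2)⟩
      left_inv := fun x => Subtype.ext (φ.symm_apply_apply _)
      right_inv := fun y => Subtype.ext (φ.apply_symm_apply _)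
      map_mul' := fun x y => Subtype.ext (map_mul φ _ _) }
  have hc : (Cfsg.Omega F Q).map E.toMonoidHom = Cfsg.Omega K Q' := by
    show (commutator _).map _ = commutator _
    rw [commutator_def, Subgroup.map_commutator, Subgroup.map_top_of_surjective _ E.surjective,
      ← commutator_def]
  let EO : Cfsg.Omega F Q ≃* Cfsg.Omega K Q' :=
    (E.subgroupMap (Cfsg.Omega F Q)).trans (MulEquiv.subgroupCongr hc)
  refine ⟨QuotientGroup.congr _ _ EO ?_⟩
  ext y
  rw [Subgroup.mem_map, Subgroup.mem_center_iff]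
  constructor
  · rintro ⟨x, hx, rfl⟩ w
    obtain ⟨v, rfl⟩ := EO.surjective w
    show EO v * EO x = EO x * EO v
    rw [← map_mul, ← map_mul, Subgroup.mem_center_iff.1 hx v]
  · intro h
    obtain ⟨x, rfl⟩ := EO.surjective y
    refine ⟨x, Subgroup.mem_center_iff.2 fun v => EO.injective ?_, rfl⟩
    rw [map_mul, map_mul]
    exact h (EO v)

theorem exists_ringEquiv_zmod {F : Type u} [Field F] [Fintype F] {p : ℕ} [Fact p.Prime]
    (hF : Fintype.card F = p) : Nonempty (F ≃+* ZMod p) :=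
  ⟨(ZMod.ringEquivOfPrime F (Fact.out) hF).symm⟩

end Cfsg.Agent.Recog71.O7Mult
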