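import Cfsg.Agent.ClassMult.OddMult
import Cfsg.Agent.Lib.Schur.Perfect

/-!
The part prime to three of the multiplier of `PΩ₇(3)`.
-/

set_option autoImplicit false

namespace Cfsg.Agent.Recog71.O7Mult

open Cfsg.Agent.ClassMult Cfsg.Agent.UnitaryOrthogonal QuadraticMap
open Cfsg.Agent.CharB.PSLMult hiding emb

theorem two_facts :
    (∃ (Γ : Type) (_ : Group Γ) (σ : Γ →* Cfsg.POmega (ZMod 3) (Cfsg.quadFormOdd 3 (ZMod 3))),
      Cfsg.IsStemExtension σ ∧ Nat.card σ.ker = 2) ∧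
    ∀ (Γ : Type) [Group Γ] [Finite Γ] (σ : Γ →* Cfsg.POmega (ZMod 3) (Cfsg.quadFormOdd 3 (ZMod 3))),
      Cfsg.IsStemExtension σ → ¬ 3 ∣ Nat.card σ.ker → Nat.card σ.ker ≤ 2 := by
  classical
  have h2 : (2 : ZMod 3) ≠ 0 := by decide
  haveI : Invertible (2 : ZMod 3) := invertibleOfNonzero h2
  have hp : Nat.Prime 3 := Nat.prime_three
  have hB := base_sqForm (F := ZMod 3) h2
  have hk : 1 ≤ 1 ∨ ∃ a, sqForm (ZMod 3) a ≠ 0 := Or.inl le_rfl
  have hex := exists_hypSum_ne_zero (Q := sqForm (ZMod 3)) 1 hk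
  set Q := hyp (hyp (hypSum 1 (sqForm (ZMod 3)))) with hQdef
  have hnd : PolarND Q := (hB.nd.hypSum 1).hyp.hyp
  let ψ := (oddEquiv (1 + 2) (ZMod 3)).trans (orthCongr (hypSumTwo (sqForm (ZMod 3)) 1))
  obtain ⟨e⟩ := nonempty_commutator_quotient_congr ψ (commutator_orth_eq hB hk)
  have hperf : Group.IsPerfect (eichGroup Q) := by
    have := isPerfect_commutator_orth hB (k := 1) hk
    rwa [commutator_orth_eq hB hk] at this
  let τ : eichGroup Q →* Cfsg.POmega (ZMod 3) (Cfsg.quadFormOdd 3 (ZMod 3)) :=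
    e.symm.toMonoidHom.comp (QuotientGroup.mk' (Subgroup.center (eichGroup Q)))
  have hτ : τ.ker = Subgroup.center (eichGroup Q) := by
    ext x
    rw [MonoidHom.mem_ker, ← QuotientGroup.eq_one_iff]
    exact e.symm.map_eq_one_iff
  have hτs : Function.Surjective τ := e.symm.surjective.comp (QuotientGroup.mk'_surjective _)
  haveI : Finite (Cfsg.POmega (ZMod 3) (Cfsg.quadFormOdd (1 + 2) (ZMod 3))) :=
    Finite.of_surjective _ hτs
  have hZ : Nat.card (Subgroup.center (eichGroup Q)) = 1 := by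
    have hP := (pomega_odd (F := ZMod 3) h2 1).2
    rw [Nat.card_congr e.toEquiv] at hP
    have h1 := Subgroup.card_eq_card_quotient_mul_card_subgroup (Subgroup.center (eichGroup Q))
    have h3 := (eichGroup Q).card_mul_index
    have hidx : (eichGroup Q).index = 4 :=
      (eichGroup_eq_ker_of_odd (hB.nd.hypSum 1) hex (elemGroup_hypHyp hB.nd hB.refl 1) h2
        (hsep_of_base h2 (hB.sep h2) 1)).2
    rw [h1, hidx, ← card_orth_congr (hypSumTwo (sqForm (ZMod 3)) 1), ← hP] at h3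
    have hpos : 0 < Nat.card (eichGroup Q ⧸ Subgroup.center (eichGroup Q)) := Nat.card_pos
    refine Nat.eq_of_mul_eq_mul_left hpos ?_
    rw [hQdef] at *
    linarith [h3]
  constructor
  · have hsq : ∃ g ∈ spin Q, g * g = ((-1, 1) : (CliffordAlgebra Q)ˣ × orth Q) := by
      refine exists_sq_eq_neg_one (a := eVec (ZMod 3) _) (b := fVec (ZMod 3) _)
        (c := inW (eVec (ZMod 3) _)) (d := inW (fVec (ZMod 3) _)) ?_ ?_ ?_ ?_ ?_ ?_ ?_ ?_ ?_ ?_ <;>
          simp [hQdef, eVec, fVec, inW_apply, polar]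
    obtain ⟨hst, hcard⟩ := exists_stem_cover hnd hperf hsq τ hτs hτ.le
    rw [hτ, hZ, mul_one] at hcard
    exact ⟨_, inferInstance, _, hst, hcard⟩
  · intro Γ _ _ σ hσ hdvd
    have hbij : Function.Bijective τ := by
      refine ⟨(MonoidHom.ker_eq_bot_iff τ).mp ?_, hτs⟩
      rw [hτ]
      exact Subgroup.eq_bot_of_card_le _ hZ.le
    let eτ : eichGroup Q ≃* Cfsg.POmega (ZMod 3) (Cfsg.quadFormOdd 3 (ZMod 3)) :=
      MulEquiv.ofBijective τ hbij
    have hb := PBound.of_mulEquiv eτ (pBound_odd.{0} h2 hp 1)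
    have E : PExt 3 σ := ⟨hp, hσ.1, hσ.2.1, hdvd⟩
    haveI hS : Group.IsPerfect (Cfsg.POmega (ZMod 3) (Cfsg.quadFormOdd 3 (ZMod 3))) := ⟨by
      have h := congrArg (Subgroup.map τ) (hperf.commutator_eq_top)
      rwa [_root_.commutator_def, Subgroup.map_commutator, Subgroup.map_top_of_surjective τ hτs,
        ← _root_.commutator_def] at h⟩
    have hΓ : commutator Γ = ⊤ :=
      (Cfsg.Agent.Schur.isPerfect_of_stem hS σ hσ).commutator_eq_top
    refine hb Γ σ E (eq_top_of_sup_center hΓ (eq_top_iff.2 fun g _ => ?_))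
    have hmap : (Subgroup.closure {g : Γ | Pel 3 g}).map σ = ⊤ := by
      rw [eq_top_iff, ← Subgroup.map_top_of_surjective τ hτs, ← closure_pel_eichGroup Q 3,
        Subgroup.map_le_iff_le_comap, Subgroup.closure_le]
      intro x hx
      exact ⟨E.pl (τ x) (Pel.map τ hx), Subgroup.subset_closure (E.pel_pl _), E.map_pl _⟩
    obtain ⟨a, ha, e'⟩ : σ g ∈ (Subgroup.closure {g : Γ | Pel 3 g}).map σ :=
      hmap ▸ Subgroup.mem_top _
    rw [show g = a * (a⁻¹ * g) by group]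
    exact Subgroup.mul_mem_sup ha (hσ.2.1 (by simp [MonoidHom.mem_ker, e']))

end Cfsg.Agent.Recog71.O7Mult
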