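import Cfsg.Agent.Recog71.O7Mult.Cover
import Cfsg.Agent.Recog71.O7Mult.Two
import Cfsg.Agent.Recog71.O7Mult.Field
import Cfsg.Agent.Lib.Schur.Basic
import Cfsg.Agent.Lib.Schur.Perfect

/-!
The Schur multiplier of `PΩ₇(3)` is cyclic of order six.
-/

set_option autoImplicit false
set_option maxRecDepth 100000

namespace Cfsg.Agent.Recog71.O7Mult

open Cfsg.Agent.CosetEnum
open scoped IsMulCommutative

universe u

/-- `PΩ₇(3)`. -/
abbrev P3 : Type := Cfsg.POmega (ZMod 3) (Cfsg.quadFormOdd 3 (ZMod 3))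

theorem quot_stem {G Γ : Type} [Group G] [Group Γ] [Finite Γ] (σ : Γ →* G)
    (hσ : Cfsg.IsStemExtension σ) (L : Subgroup Γ) (hL : L ≤ σ.ker) :
    ∃ (Δ : Type) (_ : Group Δ) (_ : Finite Δ) (τ : Δ →* G), Cfsg.IsStemExtension τ ∧
      Nat.card σ.ker = Nat.card τ.ker * Nat.card L := by
  haveI : L.Normal := ⟨fun n hn g => by
    rw [Subgroup.mem_center_iff.mp (hσ.2.1 (hL hn)) g, mul_inv_cancel_right]
    exact hn⟩
  let τ : Γ ⧸ L →* G := QuotientGroup.lift L σ hL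
  have hk : τ.ker = σ.ker.map (QuotientGroup.mk' L) := QuotientGroup.ker_lift _ _ _
  have hs : Function.Surjective τ := fun g => by
    obtain ⟨y, rfl⟩ := hσ.1 g
    exact ⟨QuotientGroup.mk y, rfl⟩
  refine ⟨Γ ⧸ L, inferInstance, inferInstance, τ, ⟨hs, ?_, ?_⟩, ?_⟩
  · rw [hk]
    rintro _ ⟨y, hy, rfl⟩
    rw [Subgroup.mem_center_iff]
    intro z
    obtain ⟨w, rfl⟩ := QuotientGroup.mk_surjective z
    exact congrArg (QuotientGroup.mk' L) (Subgroup.mem_center_iff.mp (hσ.2.1 hy) w)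
  · rw [hk]
    refine (Subgroup.map_mono hσ.2.2).trans ?_
    rw [_root_.commutator_def, Subgroup.map_commutator, _root_.commutator_def]
    exact Subgroup.commutator_mono le_top le_top
  · haveI : Finite G := Finite.of_surjective σ hσ.1
    have h1 := σ.ker.card_mul_index
    have h2 := τ.ker.card_mul_index
    have h3 := Subgroup.card_eq_card_quotient_mul_card_subgroup L
    rw [Subgroup.index_ker, MonoidHom.range_eq_top.mpr hσ.1, Subgroup.card_top] at h1
    rw [Subgroup.index_ker, MonoidHom.range_eq_top.mpr hs, Subgroup.card_top] at h2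
    refine Nat.eq_of_mul_eq_mul_right (Nat.card_pos (α := G)) ?_
    rw [h1, h3, ← h2]
    ring

theorem exists_sub_card {Γ : Type} [Group Γ] [Finite Γ] (K : Subgroup Γ) {p k : ℕ} (hp : p.Prime)
    (h : p ^ k ∣ Nat.card K) : ∃ L : Subgroup Γ, L ≤ K ∧ Nat.card L = p ^ k := by
  haveI := Fact.mk hp
  obtain ⟨L, hL⟩ := Sylow.exists_subgroup_card_pow_prime p h
  refine ⟨L.map K.subtype, Subgroup.map_subtype_le L, ?_⟩
  rw [Subgroup.card_map_of_injective (Subgroup.subtype_injective K), hL]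

theorem ker_le_six (hperf : Group.IsPerfect P3) (i : Fi22.pres.sub Fi22.O.sel ≃* P3)
    (Γ : Type) [Group Γ] [Finite Γ] (σ : Γ →* P3) (hσ : Cfsg.IsStemExtension σ) :
    Nat.card σ.ker ≤ 6 := by
  obtain ⟨a, m, hm, hn⟩ :=
    Nat.exists_eq_pow_mul_and_not_dvd (Nat.card_pos (α := σ.ker)).ne' 2 (by norm_num)
  -- the odd part
  have h3 : m ≤ 3 := by
    obtain ⟨L, hL, hLc⟩ := exists_sub_card σ.ker (k := a) Nat.prime_two ⟨m, hn⟩
    obtain ⟨Δ, _, _, τ, hτ, hc⟩ := quot_stem σ hσ L hL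
    have hm' : Nat.card τ.ker = m := by
      rw [hn, hLc, mul_comm (2 ^ a)] at hc
      exact (Nat.eq_of_mul_eq_mul_right (pow_pos (by norm_num) a) hc).symm
    obtain ⟨hτ', hk⟩ := Schur.isStemExtension_comp_mulEquiv hτ i.symm
    have hkk : ((Fi22.pres.sub Fi22.O.sel).subtype.comp (i.symm.toMonoidHom.comp τ)).ker =
        τ.ker := by
      ext y; simp [MonoidHom.mem_ker]
    have hr : ((Fi22.pres.sub Fi22.O.sel).subtype.comp (i.symm.toMonoidHom.comp τ)).range =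
        Fi22.pres.sub Fi22.O.sel := by
      rw [MonoidHom.range_comp, MonoidHom.range_eq_top.mpr hτ'.1, ← MonoidHom.range_eq_map,
        Subgroup.range_subtype]
    have h := odd_bound _ hr (hkk ▸ hτ.2.1)
      (Schur.isPerfect_of_stem hperf τ hτ).commutator_eq_top
      (by rw [hkk, hm', Nat.odd_iff]; omega)
    rwa [hkk, hm'] at h
  -- the part prime to three
  have hm0 : m ≠ 0 := fun h => hm (h ▸ dvd_zero 2)
  obtain ⟨k, hk⟩ : ∃ k, m = 3 ^ k := by
    have : m = 1 ∨ m = 3 := by omega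
    rcases this with rfl | rfl
    exacts [⟨0, rfl⟩, ⟨1, rfl⟩]
  obtain ⟨L, hL, hLc⟩ := exists_sub_card σ.ker (k := k) Nat.prime_three
    ⟨2 ^ a, by rw [hn, hk, mul_comm]⟩
  obtain ⟨Δ, _, _, τ, hτ, hc⟩ := quot_stem σ hσ L hL
  have ha' : Nat.card τ.ker = 2 ^ a := by
    rw [hn, hLc, ← hk] at hc
    exact (Nat.eq_of_mul_eq_mul_right (Nat.pos_of_ne_zero hm0) hc).symm
  have h2 := two_facts.2 Δ τ hτ (by
    rw [ha']
    intro h
    exact absurd (Nat.prime_three.dvd_of_dvd_pow h) (by norm_num))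
  rw [hn]
  rw [ha'] at h2
  calc 2 ^ a * m ≤ 2 * 3 := Nat.mul_le_mul h2 h3
    _ = 6 := rfl

theorem multiplier_three : Cfsg.HasCyclicSchurMultiplier P3 6 := by
  obtain ⟨i⟩ := Fi22.O7.sub_iso
  obtain ⟨Γ₃, _, σ₃, h3, hc3, hperfH⟩ := exists_triple_cover
  obtain ⟨Γ₂, _, σ₂, h2, hc2⟩ := two_facts.1
  haveI : Finite (Fi22.pres.sub Fi22.O.sel) :=
    Nat.finite_of_card_ne_zero (by rw [Fi22.index_O.2]; norm_num)
  haveI : Finite P3 := Finite.of_equiv _ i.toEquiv
  have hperf : Group.IsPerfect P3 := ⟨by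
    have h := congrArg (Subgroup.map i.toMonoidHom) hperfH
    rwa [_root_.commutator_def, Subgroup.map_commutator,
      Subgroup.map_top_of_surjective _ i.surjective, ← _root_.commutator_def] at h⟩
  obtain ⟨Γ₀, _, _, σ₀, h0, ⟨e₀⟩⟩ := Schur.exists_cover P3
  have hle : Nat.card (Schur.Mult P3) ≤ 6 := by
    rw [← Nat.card_congr e₀.toEquiv]
    exact ker_le_six hperf i Γ₀ σ₀ h0
  obtain ⟨π₂, hπ₂⟩ := Schur.exists_surjective_of_stem σ₂ h2
  obtain ⟨h3', hk3⟩ := Schur.isStemExtension_comp_mulEquiv h3 i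
  obtain ⟨π₃, hπ₃⟩ := Schur.exists_surjective_of_stem _ h3'
  have d2 : 2 ∣ Nat.card (Schur.Mult P3) := hc2 ▸ Subgroup.card_dvd_of_surjective π₂ hπ₂
  have d3 : 3 ∣ Nat.card (Schur.Mult P3) := by
    have h := Subgroup.card_dvd_of_surjective π₃ hπ₃
    rwa [hk3, hc3] at h
  have hpos : 0 < Nat.card (Schur.Mult P3) := Nat.card_pos
  have h6 : Nat.card (Schur.Mult P3) = 6 := by omega
  haveI := Fact.mk Nat.prime_two
  haveI := Fact.mk Nat.prime_three
  obtain ⟨a, ha⟩ := exists_prime_orderOf_dvd_card' 2 d2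
  obtain ⟨b, hb⟩ := exists_prime_orderOf_dvd_card' 3 d3
  haveI : IsCyclic (Schur.Mult P3) := isCyclic_of_orderOf_eq_card (a * b) (by
    rw [(Commute.all a b).orderOf_mul_eq_mul_orderOf_of_coprime (by rw [ha, hb]; decide), ha, hb,
      h6])
  refine Schur.hasSchurMultiplier_of_mulEquiv (mulEquivOfCyclicCardEq ?_)
  rw [h6, Nat.card_congr Multiplicative.toAdd, Nat.card_zmod]

theorem multiplier {F : Type u} [Field F] [Fintype F] (hF : Fintype.card F = 3) :
    Cfsg.HasCyclicSchurMultiplier (Cfsg.POmega F (Cfsg.quadFormOdd 3 F)) 6 := by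
  obtain ⟨e⟩ := exists_ringEquiv_zmod (p := 3) hF
  obtain ⟨f⟩ := pomega_field e.symm (Cfsg.quadFormOdd 3 (ZMod 3)) (Cfsg.quadFormOdd 3 F)
    fun w => by simp [Cfsg.quadFormOdd]
  exact Schur.hasSchurMultiplier_congr f multiplier_three

end Cfsg.Agent.Recog71.O7Mult
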