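import Cfsg.Agent.Recog71.O7Mult.Data
import Cfsg.Agent.Lib.CosetEnum.Cox
import Cfsg.Agent.SporB.Fi22.O.Data

/-!
The monomial action as functions on numbers, and the predicates checked on it.
-/

set_option autoImplicit false
set_option maxRecDepth 100000

namespace Cfsg.Agent.Recog71.O7Mult

open Cfsg.Agent.CosetEnum

/-- The tree of one generator. -/
def encs (l : ℕ) : PTree := [enc0, enc1, enc2, enc3, enc4, enc5, enc6, enc7].getD l enc0

/-- The image of a point under a generator. -/
noncomputable def ef (l q : ℕ) : ℕ :=
  forceNat ((encs l).get 16 (q / 3)) fun e => 3 * (e / 3) + (e % 3 + q % 3) % 3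

/-- The shift of the weights. -/
def sh (q : ℕ) : ℕ := 3 * (q / 3) + (q % 3 + 2) % 3

/-- The image of a point under a word, last letter first. -/
noncomputable def runE : List ℕ → ℕ → ℕ
  | [], q => q
  | l :: W, q => forceNat (runE W q) (ef l)

/-- The generators give involutions of the points commuting with the shift. -/
noncomputable def genOK (q : ℕ) : Bool :=
  (List.range 8).all fun l => forceNat (ef l q) fun r => Nat.blt r 9477 && Nat.beq (ef l r) q &&
    Nat.beq (ef l (sh q)) (sh r)

/-- Half of the Coxeter relators. -/
def halfRels : List (List ℕ) :=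
  (Fi22.O.rels.filter fun W => Nat.ble W.length 6).filter fun W => Nat.ble (W.getD 0 0) (W.getD 1 0)

/-- The short relators fix the point. -/
noncomputable def relOK (q : ℕ) : Bool := halfRels.all fun W => Nat.beq (runE W q) q

/-- The long relators act as identity and as shift. -/
noncomputable def longOK (q : ℕ) : Bool :=
  Nat.beq (runE (repWord [0, 1, 2, 3, 4, 5, 6] 9) q) q &&
    Nat.beq (runE (repWord [2, 1, 0, 2, 3, 4, 2, 6, 7] 10) q) (sh q)

end Cfsg.Agent.Recog71.O7Mult
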