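import Cfsg.Agent.SporB.Fi22.O7.Iso
import Cfsg.Agent.Recog71.ColourCore

/-!
Words in the eight generators of `PΩ₇(3)` inside `Fi22`.
-/

set_option autoImplicit false
set_option maxRecDepth 100000

namespace Cfsg.Agent.Recog71.O7Mult

open Cfsg.Agent.CosetEnum

/-- The order of `PΩ₇(3)`. -/
abbrev N : ℕ := 4585351680

/-- The Coxeter relators. -/
def coxRels : List (List ℕ) := Fi22.O.rels.filter fun W => Nat.ble W.length 6

/-- The word of the spider relator. -/
def spiderW : List ℕ := [2, 1, 0, 2, 3, 4, 2, 6, 7]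

/-- The word of the second long relator. -/
def r2W : List ℕ := [0, 1, 2, 3, 4, 5, 6]

/-- The spider without its last letter. -/
def pW : List ℕ := [2, 1, 0, 2, 3, 4, 2, 6]

/-- A reflection of the subgroup of type `E₆`. -/
def thetaW : List ℕ := [6, 2, 3, 1, 2, 6, 4, 3, 2, 1, 0, 1, 2, 3, 4, 6, 2, 1, 3, 2, 6]

/-- A product of two reflections of order three. -/
def tauW : List ℕ := 7 :: thetaW

/-- A conjugate of `tauW`. -/
def eW : List ℕ := pW ++ tauW ++ pW.reverse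

/-- An element of order ten in the subgroup of type `E₆`. -/
def mW : List ℕ := pW ++ thetaW

/-- The conjugates of `eW` under the powers of `mW`. -/
def fW (k : ℕ) : List ℕ := repWord mW k ++ eW ++ repWord mW.reverse k

/-- A chain of rotations and commutations from `r2W` to its reverse. -/
def chain : List (List ℕ) := [
    [0,1,2,3,4,5,6],
    [1,2,3,4,5,6,0],
    [2,3,4,5,6,0,1],
    [3,4,5,6,0,1,2],
    [4,5,6,0,1,2,3],
    [5,6,0,1,2,3,4],
    [6,5,0,1,2,3,4],
    [5,0,1,2,3,4,6],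
    [0,5,1,2,3,4,6],
    [5,1,2,3,4,6,0],
    [1,5,2,3,4,6,0],
    [5,2,3,4,6,0,1],
    [2,5,3,4,6,0,1],
    [5,3,4,6,0,1,2],
    [3,5,4,6,0,1,2],
    [5,4,6,0,1,2,3],
    [5,6,4,0,1,2,3],
    [6,5,4,0,1,2,3],
    [5,4,0,1,2,3,6],
    [5,0,4,1,2,3,6],
    [0,5,4,1,2,3,6],
    [5,4,1,2,3,6,0],
    [5,1,4,2,3,6,0],
    [1,5,4,2,3,6,0],
    [5,4,2,3,6,0,1],
    [5,2,4,3,6,0,1],
    [2,5,4,3,6,0,1],
    [5,4,3,6,0,1,2],
    [5,4,6,3,0,1,2],
    [5,6,4,3,0,1,2],
    [6,5,4,3,0,1,2],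
    [6,5,4,0,3,1,2],
    [6,5,0,4,3,1,2],
    [6,0,5,4,3,1,2],
    [0,6,5,4,3,1,2],
    [6,5,4,3,1,2,0],
    [6,5,4,1,3,2,0],
    [6,5,1,4,3,2,0],
    [6,1,5,4,3,2,0],
    [1,6,5,4,3,2,0],
    [6,5,4,3,2,0,1],
    [6,5,4,3,0,2,1],
    [6,5,4,0,3,2,1],
    [6,5,0,4,3,2,1],
    [6,0,5,4,3,2,1],
    [0,6,5,4,3,2,1],
    [6,5,4,3,2,1,0]]

/-- One rotation or one commutation. -/
def stepOK (a b : List ℕ) : Bool :=
  decide (b = a.drop 1 ++ a.take 1) || (List.range (a.length - 1)).any fun k =>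
    decide (b = a.take k ++ [a.getD (k + 1) 0, a.getD k 0] ++ a.drop (k + 2)) &&
    decide (a = a.take k ++ [a.getD k 0, a.getD (k + 1) 0] ++ a.drop (k + 2)) &&
    decide ([a.getD k 0, a.getD (k + 1) 0, a.getD k 0, a.getD (k + 1) 0] ∈ coxRels)

/-- Consecutive words differ by one step. -/
def chainOK : List (List ℕ) → Bool
  | a :: b :: l => stepOK a b && chainOK (b :: l)
  | _ => true

theorem chain_ok : chainOK chain = true := by decide +kernel

theorem rels_split : ∀ W ∈ Fi22.O.rels,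
    W ∈ coxRels ∨ W = repWord spiderW 10 ∨ W = repWord r2W 9 := by decide +kernel

theorem spider_mem : repWord spiderW 10 ∈ Fi22.O.rels := by decide +kernel

theorem r2_mem : repWord r2W 9 ∈ Fi22.O.rels := by decide +kernel

theorem coxRels_sub {W : List ℕ} (h : W ∈ coxRels) : W ∈ Fi22.O.rels := (List.mem_filter.mp h).1

/-- The generators of `PΩ₇(3)` inside `Fi22`. -/
def x (l : ℕ) : Fi22.pres.Gp := Fi22.pres.subVal Fi22.O.sel l

theorem x_rels : ∀ W ∈ Fi22.O.rels, evalWord x W = 1 :=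
  Fi22.pres.local_rels (sel := Fi22.O.sel) (rels := Fi22.O.rels) (by decide +kernel)

theorem gsub_x : Glue.gsub x (List.range 8) = Fi22.pres.sub Fi22.O.sel := by
  rw [Glue.gsub, InvPres.sub]
  congr 1
  ext g
  simp only [List.mem_map, List.mem_range, Set.mem_ofPred_eq, Set.mem_image, Set.mem_Iio]
  rfl

/-- A word of local letters as a word of global letters. -/
def glob (W : List ℕ) : List ℕ := W.map fun l => Fi22.O.sel.getD l 0

/-- Two words agree on the bases of the levels. -/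
noncomputable def sameOK (U V : List ℕ) : Bool :=
  U.all (fun l => Nat.blt l 8) && V.all (fun l => Nat.blt l 8) &&
  Fi22.Rep.levels.all fun L => Nat.blt L.b 3510 &&
    Nat.beq (Fi22.Rep.tbl.run (glob U) L.b) (Fi22.Rep.tbl.run (glob V) L.b)

theorem glob_lt {W : List ℕ} (h : ∀ l ∈ W, l < 8) : ∀ l ∈ glob W, l < Fi22.Rep.tbl.nl := by
  intro l hl
  obtain ⟨k, hk, rfl⟩ := List.mem_map.mp hl
  exact (by decide +kernel : ∀ k < 8, Fi22.O.sel.getD k 0 < Fi22.Rep.tbl.nl) k (h k hk)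

theorem eval_eq {U V : List ℕ} (h : sameOK U V = true) : evalWord x U = evalWord x V := by
  haveI := Fi22.finite
  simp only [sameOK, Bool.and_eq_true, List.all_eq_true] at h
  obtain ⟨⟨hU, hV⟩, hL⟩ := h
  have hU' : ∀ l ∈ U, l < 8 := fun l hl => Nat.le_of_ble_eq_true (hU l hl)
  have hV' : ∀ l ∈ V, l < 8 := fun l hl => Nat.le_of_ble_eq_true (hV l hl)
  show evalWord (Fi22.pres.subVal Fi22.O.sel) U = evalWord (Fi22.pres.subVal Fi22.O.sel) V
  rw [Fi22.pres.evalWord_subVal Fi22.O.sel (by simpa [Fi22.O.sel] using hU'),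
    Fi22.pres.evalWord_subVal Fi22.O.sel (by simpa [Fi22.O.sel] using hV')]
  refine Colour.eq_of_base (R := Fi22.rep) (hnd := Fi22.nodup) Fi22.Rep.slp_ok Fi22.Rep.levels_ok
    (Fi22.card_eq.1.trans Fi22.Rep.levels_prod.symm) Fi22.card_eq.2 fun L hL' => ?_
  obtain ⟨hb, he⟩ := hL L hL'
  have hb' : L.b < Fi22.Rep.tbl.n := Nat.le_of_ble_eq_true hb
  show Colour.ap _ _ (evalWord _ (glob U)) _ = Colour.ap _ _ (evalWord _ (glob V)) _
  rw [Colour.ap_word (glob_lt hU') hb', Colour.ap_word (glob_lt hV') hb']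
  exact Nat.eq_of_beq_eq_true he

theorem mW_ok : sameOK (repWord mW 10) [] = true := by decide +kernel

theorem tauW_ok : sameOK (repWord tauW 3) [] = true := by decide +kernel

theorem fW_ok : (List.range 10).all (fun d => sameOK (eW ++ fW d) (fW d ++ eW)) = true := by
  decide +kernel

end Cfsg.Agent.Recog71.O7Mult
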